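import Mathlib.RingTheory.IsTensorProduct
import Mathlib.RingTheory.Regular.IsSMulRegular
import Mathlib.RingTheory.MvPolynomial.Ideal
import Mathlib.RingTheory.MvPolynomial.Basic

/-! Multiplication by a coordinate on a base change. -/

set_option autoImplicit false
universe u

open scoped TensorProduct

namespace Groth.L29.AffLine

variable {A B : Type u} [CommRing A] [CommRing B] [Algebra A B]

/-- a regular generator of the kernel of a retraction stays regular on every base change -/
theorem injective_smul_baseChange (ε : B →ₐ[A] A) (t : B) (ht : IsSMulRegular B t)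
    (hker : ∀ b, ε b = 0 → t ∣ b) (hεt : ε t = 0) {N M : Type u} [AddCommGroup N] [Module A N]
    [AddCommGroup M] [Module A M] [Module B M] [IsScalarTower A B M] {g : N →ₗ[A] M}
    (hg : IsBaseChange B g) : Function.Injective fun m : M => t • m := by
  classical
  have h1 : ∀ b : B, t ∣ b - algebraMap A B (ε b) := fun b => hker _ (by simp)
  choose r hr using h1
  have hu : ∀ b c, b - algebraMap A B (ε b) = t * c → r b = c := fun b c h =>
    ht (show t * r b = t * c from (hr b).symm.trans h)
  let R : B →ₗ[A] B :=
    { toFun := r
      map_add' := fun x y => hu _ _ (by rw [map_add, map_add, mul_add, ← hr, ← hr]; ring)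
      map_smul' := fun a x => hu _ _ (by
        rw [map_smul, RingHom.id_apply, Algebra.smul_def a (r x), Algebra.smul_def a x, smul_eq_mul,
          map_mul, mul_left_comm, ← hr]; ring) }
  let T : B →ₗ[A] B := LinearMap.mulLeft A t
  have hRT : R ∘ₗ T = LinearMap.id := LinearMap.ext fun b => hu _ _ (by simp [T, hεt])
  have key : ∀ x : B ⊗[A] N, hg.equiv (T.rTensor N x) = t • hg.equiv x := by
    intro x
    induction x with
    | zero => simp
    | tmul b n => simp [T, IsBaseChange.equiv_tmul, mul_smul]
    | add x y hx hy => simp only [map_add, smul_add, hx, hy]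
  intro m m' h
  obtain ⟨x, rfl⟩ := hg.equiv.surjective m
  obtain ⟨y, rfl⟩ := hg.equiv.surjective m'
  have h' : T.rTensor N x = T.rTensor N y := hg.equiv.injective (by rw [key, key]; exact h)
  have := congrArg (R.rTensor N) h'
  rw [← LinearMap.comp_apply, ← LinearMap.comp_apply, ← LinearMap.rTensor_comp, hRT,
    LinearMap.rTensor_id] at this
  exact congrArg hg.equiv this

omit [Algebra A B] in
/-- a polynomial in one variable without constant term is a multiple of the variable -/
theorem X_dvd_of_constantCoeff {σ : Type u} [Unique σ] (q : MvPolynomial σ A)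
    (h : MvPolynomial.constantCoeff q = 0) : MvPolynomial.X default ∣ q := by
  rw [← Ideal.mem_span_singleton,
    show ({MvPolynomial.X default} : Set (MvPolynomial σ A)) = MvPolynomial.X '' {default} by simp,
    MvPolynomial.mem_ideal_span_X_image]
  intro m hm
  refine ⟨default, rfl, fun h0 => ?_⟩
  refine MvPolynomial.mem_support_iff.1 hm ?_
  have : m = 0 := Finsupp.ext fun i => by rw [Unique.eq_default i, h0]; rfl
  rw [this]
  exact h

omit [Algebra A B] in
theorem X_mul_eq_zero {σ : Type u} (i : σ) (q : MvPolynomial σ A) (h : MvPolynomial.X i * q = 0) : q = 0 := by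
  ext m
  have := MvPolynomial.coeff_X_mul m i q
  rw [h] at this
  simpa using this.symm

end Groth.L29.AffLine
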