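import Groth.Agent.L29.AffLine.Alg
import Mathlib.AlgebraicGeometry.AffineSpace
import Mathlib.AlgebraicGeometry.Morphisms.ClosedImmersion
import Mathlib.AlgebraicGeometry.IdealSheaf.Basic
import Mathlib.AlgebraicGeometry.ResidueField

/-! The affine line: sections over an affine of the base, the zero section. -/

set_option autoImplicit false
set_option backward.isDefEq.respectTransparency false
set_option backward.isDefEq.respectTransparency.types false
set_option linter.style.haveILetI false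
universe u

open CategoryTheory CategoryTheory.Limits AlgebraicGeometry TopologicalSpace Opposite

noncomputable section

namespace Groth.L29.AffLine

abbrev σ1 : Type u := ULift.{u} (Fin 1)

variable (X : Scheme.{u})

/-- the affine line -/
abbrev Ln : Scheme.{u} := 𝔸(σ1.{u}; X)

/-- the projection -/
abbrev pr : Ln X ⟶ X := 𝔸(σ1.{u}; X) ↘ X

/-- the coordinate -/
abbrev t : Γ(Ln X, ⊤) := AffineSpace.coord X (ULift.up (0 : Fin 1))

/-- the zero section -/
def zsec : X ⟶ Ln X := AffineSpace.homOfVector (𝟙 X) fun _ => 0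

theorem zsec_pr : zsec X ≫ pr X = 𝟙 X := AffineSpace.homOfVector_over _ _

theorem zsec_t : (zsec X).appTop (t X) = 0 := AffineSpace.homOfVector_appTop_coord _ _ _

instance isClosedImmersion_zsec : IsClosedImmersion (zsec X) :=
  haveI : IsClosedImmersion (zsec X ≫ pr X) := by rw [zsec_pr]; infer_instance
  IsClosedImmersion.of_comp (zsec X) (pr X)

theorem range_zsec : Set.range (zsec X) = ((Ln X).basicOpen (t X) : Set (Ln X))ᶜ := by
  apply le_antisymm
  · rintro _ ⟨x, rfl⟩ hx
    have h : x ∈ (zsec X) ⁻¹ᵁ (Ln X).basicOpen (t X) := hx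
    rw [Scheme.preimage_basicOpen_top, zsec_t, Scheme.basicOpen_zero] at h
    exact h
  · intro y hy
    let g := (Ln X).fromSpecResidueField y
    have h0 : g.appTop (t X) = 0 := by
      rw [← basicOpen_eq_bot_iff, ← Scheme.preimage_basicOpen_top, eq_bot_iff]
      intro q hq
      have hq' : g q ∈ (Ln X).basicOpen (t X) := hq
      exact hy (by rwa [Scheme.fromSpecResidueField_apply y q] at hq')
    have hg : g = (g ≫ pr X) ≫ zsec X := by
      refine AffineSpace.hom_ext ?_ fun i => ?_
      · simp only [Category.assoc]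
        rw [show zsec X ≫ 𝔸(σ1.{u}; X) ↘ X = 𝟙 X from zsec_pr X, Category.comp_id]
      · obtain ⟨i⟩ := i
        obtain rfl : i = 0 := Subsingleton.elim _ _
        refine h0.trans (Eq.symm ?_)
        rw [Scheme.Hom.comp_appTop, CommRingCat.comp_apply]
        exact (congrArg _ (zsec_t X)).trans (map_zero _)
    refine ⟨(g ≫ pr X) (IsLocalRing.closedPoint _), ?_⟩
    rw [← Scheme.Hom.comp_apply, ← hg]
    exact Scheme.fromSpecResidueField_apply y _

variable {X} {V : X.Opens} (hV : IsAffineOpen V)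

/-- the coordinate over the preimage of `V` -/
abbrev tV (V : X.Opens) : Γ(Ln X, (pr X) ⁻¹ᵁ V) := (Ln X).presheaf.map (homOfLE le_top).op (t X)

/-- polynomials over the sections of `V` -/
abbrev poly (V : X.Opens) : MvPolynomial σ1.{u} Γ(X, V) →+* Γ(Ln X, (pr X) ⁻¹ᵁ V) :=
  MvPolynomial.eval₂Hom ((pr X).appLE V ((pr X) ⁻¹ᵁ V) le_rfl).hom fun _ => tV V

include hV in
theorem bijective_poly : Function.Bijective (poly V) := by
  let n := σ1.{u}
  let hW := hV.preimage (pr X)
  let P := CommRingCat.of (MvPolynomial n Γ(X, V))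
  let j : Spec P ⟶ Ln X := (AffineSpace.SpecIso n Γ(X, V)).inv ≫ AffineSpace.map n hV.fromSpec
  have sq := AffineSpace.isPullback_map (n := n) hV.fromSpec
  haveI : IsOpenImmersion (AffineSpace.map n hV.fromSpec) :=
    MorphismProperty.of_isPullback (P := @IsOpenImmersion) sq.flip inferInstance
  have hjp : j ≫ pr X = Spec.map (CommRingCat.ofHom MvPolynomial.C) ≫ hV.fromSpec := by
    simp only [j, Category.assoc]
    rw [show AffineSpace.map n hV.fromSpec ≫ pr X = _ from sq.w, AffineSpace.SpecIso_inv_over_assoc]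
  have hjt : j.appTop (t X) = (Scheme.ΓSpecIso P).inv (MvPolynomial.X (ULift.up 0)) := by
    simp only [j, Scheme.Hom.comp_appTop, CommRingCat.comp_apply]
    exact (congrArg _ (AffineSpace.map_appTop_coord hV.fromSpec (ULift.up 0))).trans
      (AffineSpace.SpecIso_inv_appTop_coord _ _)
  let φ : P ⟶ Γ(Ln X, (pr X) ⁻¹ᵁ V) := CommRingCat.ofHom (poly V)
  have hφj : Spec.map φ ≫ j = hW.fromSpec := by
    refine AffineSpace.hom_ext ?_ fun i => ?_
    · rw [Category.assoc, show j ≫ 𝔸(n; X) ↘ X = _ from hjp, ← Category.assoc, ← Spec.map_comp,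
        ← IsAffineOpen.SpecMap_appLE_fromSpec (pr X) hV hW le_rfl]
      congr 2
      ext a
      exact MvPolynomial.eval₂Hom_C _ _ a
    · obtain ⟨i⟩ := i
      obtain rfl : i = 0 := Subsingleton.elim _ _
      rw [Scheme.Hom.comp_appTop, CommRingCat.comp_apply]
      refine (congrArg _ hjt).trans ?_
      rw [← CommRingCat.comp_apply, ← Scheme.ΓSpecIso_inv_naturality, CommRingCat.comp_apply]
      refine (congrArg _ (MvPolynomial.eval₂Hom_X' _ _ _)).trans ?_
      rw [show hW.fromSpec.appTop = _ from hW.fromSpec_app_of_le ⊤ le_top]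
      simp
      exact ConcreteCategory.congr_hom (Scheme.ΓSpecIso_inv_naturality _) (t X)
  have hr : Set.range j ⊆ ((pr X) ⁻¹ᵁ V : Set (Ln X)) := by
    rintro _ ⟨q, rfl⟩
    show pr X (j q) ∈ V
    rw [← Scheme.Hom.comp_apply, hjp]
    exact hV.range_fromSpec.le ⟨_, rfl⟩
  haveI : IsOpenImmersion (Spec.map φ ≫ j) := hφj ▸ inferInstance
  haveI : IsOpenImmersion (Spec.map φ) := IsOpenImmersion.of_comp (Spec.map φ) j
  haveI : Epi (Spec.map φ).base := (TopCat.epi_iff_surjective _).2 fun q => by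
    obtain ⟨w, hw⟩ : j q ∈ Set.range hW.fromSpec := by rw [hW.range_fromSpec]; exact hr ⟨q, rfl⟩
    exact ⟨w, j.isOpenEmbedding.injective ((congr($hφj w)).trans hw)⟩
  haveI : IsIso (Spec.map φ) := IsOpenImmersion.isIso _
  haveI : IsIso φ := by
    haveI : IsIso (Scheme.Spec.map φ.op) := ‹IsIso (Spec.map φ)›
    haveI : IsIso φ.op := isIso_of_fully_faithful Scheme.Spec φ.op
    exact isIso_of_op φ
  exact ConcreteCategory.bijective_of_isIso φ

/-- evaluation at zero -/
abbrev ev (V : X.Opens) : Γ(Ln X, (pr X) ⁻¹ᵁ V) →+* Γ(X, V) :=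
  ((zsec X).appLE ((pr X) ⁻¹ᵁ V) V (by rw [← Scheme.Hom.comp_preimage, zsec_pr]; rfl)).hom

theorem ev_pr (V : X.Opens) (a : Γ(X, V)) :
    ev V ((pr X).appLE V ((pr X) ⁻¹ᵁ V) le_rfl a) = a := by
  have key : ∀ (f : X ⟶ X) (e), f = 𝟙 X → f.appLE V V e a = a := by
    rintro f e rfl
    simp [Scheme.Hom.appLE]
    exact ConcreteCategory.congr_hom (X.presheaf.map_id (op V)) a
  rw [← CommRingCat.comp_apply, Scheme.Hom.appLE_comp_appLE]
  exact key _ _ (zsec_pr X)

theorem ev_t (V : X.Opens) : ev V (tV V) = 0 := by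
  rw [tV, ← CommRingCat.comp_apply, Scheme.Hom.map_appLE]
  rw [Scheme.Hom.appLE, CommRingCat.comp_apply]
  exact (congrArg _ (zsec_t X)).trans (map_zero _)

theorem ev_poly (V : X.Opens) (q : MvPolynomial σ1.{u} Γ(X, V)) :
    ev V (poly V q) = MvPolynomial.constantCoeff q := by
  rw [← RingHom.comp_apply]
  congr 1
  apply MvPolynomial.ringHom_ext
  · intro a
    rw [RingHom.comp_apply, MvPolynomial.eval₂Hom_C, MvPolynomial.constantCoeff_C]
    exact ev_pr V a
  · intro i
    rw [RingHom.comp_apply, MvPolynomial.eval₂Hom_X', MvPolynomial.constantCoeff_X]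
    exact ev_t V

include hV in
theorem regular_t : IsSMulRegular Γ(Ln X, (pr X) ⁻¹ᵁ V) (tV V) := by
  rw [isSMulRegular_iff_right_eq_zero_of_smul]
  intro b hb
  obtain ⟨q, rfl⟩ := (bijective_poly hV).2 b
  have : poly V (MvPolynomial.X default * q) = 0 := by
    rw [map_mul, MvPolynomial.eval₂Hom_X']; exact hb
  rw [X_mul_eq_zero _ q ((map_eq_zero_iff _ (bijective_poly hV).1).1 this), map_zero]

include hV in
theorem t_dvd (b : Γ(Ln X, (pr X) ⁻¹ᵁ V)) (h : ev V b = 0) : tV V ∣ b := by
  obtain ⟨q, rfl⟩ := (bijective_poly hV).2 b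
  rw [ev_poly] at h
  have := map_dvd (poly V) (X_dvd_of_constantCoeff q h)
  rwa [MvPolynomial.eval₂Hom_X'] at this

end Groth.L29.AffLine
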