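import Groth.Agent.L21.Mod.Stalks
import Groth.Agent.L17.ClosedPush
import Groth.Agent.L20.ModStalk
import Mathlib.Algebra.Module.LocalizedModule.Exact

/-! Short exact sequences of quasi-coherent modules are detected on an affine cover. -/

set_option autoImplicit false
set_option backward.isDefEq.respectTransparency false
set_option backward.isDefEq.respectTransparency.types false
set_option linter.style.haveILetI false
universe u

open CategoryTheory CategoryTheory.Limits AlgebraicGeometry TopologicalSpace Opposite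
open Groth.L20.ModStalk (stalkModule germₗ isLocalizedModule_germ)

noncomputable section

namespace Groth.L29.AffLine

variable {X : Scheme.{u}}

/-- sections of a morphism over an open, as a linear map -/
def appₗ {M N : X.Modules} (f : M ⟶ N) (W : X.Opens) : Γ(M, W) →ₗ[Γ(X, W)] Γ(N, W) where
  toFun m := f.app W m
  map_add' a b := map_add (f.app W).hom a b
  map_smul' a m := f.app_smul a m

/-- the stalk map, linear over the sections on a neighbourhood -/
def stkₗ {M N : X.Modules} (f : M ⟶ N) {W : X.Opens} {x : X} (hx : x ∈ W) :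
    letI := stalkModule M hx
    letI := stalkModule N hx
    M.presheaf.stalk x →ₗ[Γ(X, W)] N.presheaf.stalk x :=
  letI := stalkModule M hx
  letI := stalkModule N hx
  { toFun := fun q => (Groth.L00.Stk.F X x).map f q
    map_add' := fun a b => map_add ((Groth.L00.Stk.F X x).map f).hom a b
    map_smul' := fun r q => ((Groth.L00.Stk.F X x).map f).hom.map_smul (X.presheaf.germ W x hx r) q }

theorem stkₗ_germ {M N : X.Modules} (f : M ⟶ N) {W : X.Opens} {x : X} (hx : x ∈ W) (m : Γ(M, W)) :
    stkₗ f hx (germₗ M hx m) = germₗ N hx (appₗ f W m) :=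
  Groth.L17.ClosedPush.stk_map_germ f x hx m

theorem map_eq_stkₗ {M N : X.Modules} [Coh.IsQCoh M] [Coh.IsQCoh N] (f : M ⟶ N) {W : X.Opens}
    (hW : IsAffineOpen W) {x : X} (hx : x ∈ W) :
    letI := stalkModule M hx
    letI := stalkModule N hx
    haveI := isLocalizedModule_germ M hW hx
    haveI := isLocalizedModule_germ N hW hx
    IsLocalizedModule.map (hW.primeIdealOf ⟨x, hx⟩).asIdeal.primeCompl (germₗ M hx) (germₗ N hx) (appₗ f W) =
      stkₗ f hx := by
  letI := stalkModule M hx
  letI := stalkModule N hx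
  haveI := isLocalizedModule_germ M hW hx
  haveI := isLocalizedModule_germ N hW hx
  refine IsLocalizedModule.linearMap_ext (hW.primeIdealOf ⟨x, hx⟩).asIdeal.primeCompl (germₗ M hx) (germₗ N hx) ?_
  ext m
  simp only [LinearMap.comp_apply]
  rw [IsLocalizedModule.map_apply, stkₗ_germ]

theorem shortExact_of_cover (S : ShortComplex X.Modules) [Coh.IsQCoh S.X₁] [Coh.IsQCoh S.X₂] [Coh.IsQCoh S.X₃]
    (h : ∀ x : X, ∃ W : X.Opens, x ∈ W ∧ IsAffineOpen W ∧ Function.Injective (S.f.app W) ∧
      Function.Exact (S.f.app W) (S.g.app W) ∧ Function.Surjective (S.g.app W)) : S.ShortExact := by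
  refine (Groth.L21.Mod.shortExact_iff_stalk S).2 fun x => ?_
  obtain ⟨W, hx, hW, h1, h2, h3⟩ := h x
  let p := (hW.primeIdealOf ⟨x, hx⟩).asIdeal.primeCompl
  letI := stalkModule S.X₁ hx
  letI := stalkModule S.X₂ hx
  letI := stalkModule S.X₃ hx
  haveI := isLocalizedModule_germ S.X₁ hW hx
  haveI := isLocalizedModule_germ S.X₂ hW hx
  haveI := isLocalizedModule_germ S.X₃ hW hx
  let lf := stkₗ S.f hx
  let lg := stkₗ S.g hx
  have ef := map_eq_stkₗ S.f hW hx
  have eg := map_eq_stkₗ S.g hW hx
  have i1 : Function.Injective (stkₗ S.f hx) := ef ▸ IsLocalizedModule.map_injective p _ _ _ h1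
  have i3 : Function.Surjective (stkₗ S.g hx) := eg ▸ IsLocalizedModule.map_surjective p _ _ _ h3
  have i2 : Function.Exact (stkₗ S.f hx) (stkₗ S.g hx) := by
    rw [← ef, ← eg]
    exact IsLocalizedModule.map_exact p _ _ _ (appₗ S.f W) (appₗ S.g W) h2
  refine { exact := (ShortComplex.ab_exact_iff_function_exact _).2 i2, mono_f := ?_, epi_g := ?_ }
  · exact (AddCommGrpCat.mono_iff_injective _).2 i1
  · exact (AddCommGrpCat.epi_iff_surjective _).2 i3

end Groth.L29.AffLine
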