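import Mathlib.RingTheory.Noetherian.Basic
import Mathlib.RingTheory.IsTensorProduct
import Mathlib.LinearAlgebra.TensorProduct.Basis

/-!
Modules over `A[t]` as quotients of extended modules: the filtration by powers of `t` on a finite set of
generators gives an exact sequence `0 → B ⊗ N₀ → B ⊗ N₁ → M → 0`.
-/

set_option autoImplicit false
universe u

open scoped TensorProduct

namespace Groth.L29.AffLine

section Filt

variable {A M : Type u} [CommRing A] [AddCommGroup M] [Module A M]

/-- `G + T G + ⋯ + Tⁿ G` -/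
def fil (T : M →ₗ[A] M) (G : Submodule A M) : ℕ → Submodule A M
  | 0 => G
  | n + 1 => fil T G n ⊔ (fil T G n).map T

theorem fil_mono (T : M →ₗ[A] M) (G : Submodule A M) {m n : ℕ} (h : m ≤ n) : fil T G m ≤ fil T G n := by
  induction h with
  | refl => exact le_rfl
  | step _ ih => exact ih.trans le_sup_left

theorem map_fil_le (T : M →ₗ[A] M) (G : Submodule A M) (n : ℕ) : (fil T G n).map T ≤ fil T G (n + 1) :=
  le_sup_right

theorem pow_mem_fil (T : M →ₗ[A] M) (G : Submodule A M) {n : ℕ} {x : M} (hx : x ∈ fil T G n) :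
    ∀ i, (T ^ i) x ∈ fil T G (n + i)
  | 0 => by simpa using hx
  | i + 1 => by
    rw [pow_succ', Module.End.mul_apply]
    exact map_fil_le T G _ ⟨_, pow_mem_fil T G hx i, rfl⟩

theorem exists_pow_add (T : M →ₗ[A] M) (G : Submodule A M) :
    ∀ n, ∀ x ∈ fil T G (n + 1), ∃ c ∈ G, ∃ f ∈ fil T G n, x = (T ^ (n + 1)) c + f
  | 0, x, hx => by
    obtain ⟨f, hf, y, ⟨c, hc, rfl⟩, rfl⟩ := Submodule.mem_sup.1 hx
    exact ⟨c, hc, f, hf, by rw [pow_one, add_comm]⟩
  | n + 1, x, hx => by
    obtain ⟨f, hf, y, ⟨z, hz, rfl⟩, rfl⟩ := Submodule.mem_sup.1 hx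
    obtain ⟨c, hc, g, hg, rfl⟩ := exists_pow_add T G n z hz
    refine ⟨c, hc, f + T g, add_mem hf (map_fil_le T G n ⟨g, hg, rfl⟩), ?_⟩
    rw [map_add, pow_succ' T (n + 1), Module.End.mul_apply]
    abel

/-- eventually, `T` does not lower the filtration degree -/
theorem exists_stable [IsNoetherianRing A] (T : M →ₗ[A] M) {G : Submodule A M} (hG : G.FG) :
    ∃ n₀, ∀ n, n₀ ≤ n → ∀ x ∈ fil T G (n + 1), ∀ d, (T ^ d) x ∈ fil T G (n + d) → x ∈ fil T G n := by
  haveI := isNoetherian_of_fg_of_noetherian G hG
  let N : ℕ →o Submodule A G :=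
    ⟨fun n => (fil T G n).comap ((T ^ (n + 1)) ∘ₗ G.subtype), monotone_nat_of_le_succ fun n c hc => by
      show (T ^ (n + 1 + 1)) (c : M) ∈ fil T G (n + 1)
      rw [pow_succ', Module.End.mul_apply]
      exact map_fil_le T G n ⟨_, hc, rfl⟩⟩
  obtain ⟨n₀, hn₀⟩ := monotone_stabilizes_iff_noetherian.2 ‹_› N
  refine ⟨n₀, fun n hn x hx d hd => ?_⟩
  obtain ⟨c, hc, f, hf, rfl⟩ := exists_pow_add T G n x hx
  refine add_mem ?_ hf
  have h1 : (⟨c, hc⟩ : G) ∈ N (n + d) := by
    show (T ^ (n + d + 1)) c ∈ fil T G (n + d)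
    have h2 : (T ^ d) ((T ^ (n + 1)) c) ∈ fil T G (n + d) := by
      rw [map_add] at hd
      exact (Submodule.add_mem_iff_left _ (pow_mem_fil T G hf d)).1 hd
    rwa [← Module.End.mul_apply, ← pow_add, show d + (n + 1) = n + d + 1 by omega] at h2
  rw [← hn₀ (n + d) (le_trans hn (Nat.le_add_right _ _)), hn₀ n hn] at h1
  exact h1

end Filt

section Exact

variable {A B : Type u} [CommRing A] [CommRing B] [Algebra A B] (b : Module.Basis ℕ A B)

theorem bij_sum {N P : Type u} [AddCommGroup N] [Module A N] [AddCommGroup P] [Module A P] [Module B P]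
    [IsScalarTower A B P] {g : N →ₗ[A] P} (hg : IsBaseChange B g) :
    Function.Bijective fun x : ℕ →₀ N => x.sum fun i n => b i • g n := by
  classical
  have h : (fun x : ℕ →₀ N => x.sum fun i n => b i • g n) =
      fun x => hg.equiv ((TensorProduct.equivFinsuppOfBasisLeft b).symm x) := by
    funext x
    rw [TensorProduct.equivFinsuppOfBasisLeft_symm_apply, Finsupp.sum, Finsupp.sum, map_sum]
    exact Finset.sum_congr rfl fun i _ => (IsBaseChange.equiv_tmul hg _ _).symm
  rw [h]
  exact hg.equiv.bijective.comp (TensorProduct.equivFinsuppOfBasisLeft b).symm.bijective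

variable {t : B} (hb : ∀ i, b i = t ^ i)
  {N₀ N₁ P₀ P₁ M : Type u} [AddCommGroup N₀] [Module A N₀] [AddCommGroup N₁] [Module A N₁]
  [AddCommGroup P₀] [Module A P₀] [Module B P₀] [IsScalarTower A B P₀]
  [AddCommGroup P₁] [Module A P₁] [Module B P₁] [IsScalarTower A B P₁]
  [AddCommGroup M] [Module A M] [Module B M] [IsScalarTower A B M]
  {g₀ : N₀ →ₗ[A] P₀} (h₀ : IsBaseChange B g₀) {g₁ : N₁ →ₗ[A] P₁} (h₁ : IsBaseChange B g₁)
  (ι θ : N₀ →ₗ[A] N₁) (e : N₁ →ₗ[A] M) (a : P₀ →ₗ[B] P₁) (q : P₁ →ₗ[B] M)
  (ha : ∀ y, a (g₀ y) = t • g₁ (ι y) - g₁ (θ y)) (hq : ∀ x, q (g₁ x) = e x)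

/-- the difference map on coefficients -/
noncomputable def co : (ℕ →₀ N₀) →+ (ℕ →₀ N₁) :=
  Finsupp.liftAddHom fun i => ((Finsupp.singleAddHom (i + 1)).comp ι.toAddMonoidHom) -
    (Finsupp.singleAddHom i).comp θ.toAddMonoidHom

include ha hb in
theorem a_sum (y : ℕ →₀ N₀) :
    a (y.sum fun i n => b i • g₀ n) = (co ι θ y).sum fun i n => b i • g₁ n := by
  induction y using Finsupp.induction_linear with
  | zero => simp
  | add f g hf hg =>
    rw [Finsupp.sum_add_index' (by simp) (by simp [smul_add]), map_add, hf, hg, map_add,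
      Finsupp.sum_add_index' (by simp) (by simp [smul_add])]
  | single i n =>
    rw [Finsupp.sum_single_index (by simp), map_smul, ha]
    simp only [co, Finsupp.liftAddHom_apply_single, AddMonoidHom.sub_apply, AddMonoidHom.comp_apply,
      Finsupp.singleAddHom_apply, LinearMap.toAddMonoidHom_coe]
    rw [sub_eq_add_neg (Finsupp.single _ _), ← Finsupp.single_neg, Finsupp.sum_add_index' (by simp) (by simp [smul_add]),
      Finsupp.sum_single_index (by simp), Finsupp.sum_single_index (by simp), map_neg, hb, hb, pow_succ,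
      smul_sub, smul_smul, smul_neg, ← sub_eq_add_neg]

theorem co_apply_succ (y : ℕ →₀ N₀) (i : ℕ) : co ι θ y (i + 1) = ι (y i) - θ (y (i + 1)) := by
  induction y using Finsupp.induction_linear with
  | zero => simp
  | add f g hf hg => simp only [map_add, Finsupp.add_apply, hf, hg]; abel
  | single j n =>
    simp only [co, Finsupp.liftAddHom_apply_single, AddMonoidHom.sub_apply, AddMonoidHom.comp_apply,
      Finsupp.singleAddHom_apply, LinearMap.toAddMonoidHom_coe, Finsupp.sub_apply, Finsupp.single_apply]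
    by_cases h1 : j = i <;> by_cases h2 : j = i + 1 <;> simp [h1, h2] <;> omega

include ha hb h₀ h₁ in
theorem injective_a (hι : Function.Injective ι) : Function.Injective a := by
  classical
  refine (injective_iff_map_eq_zero a).2 fun p hp => ?_
  obtain ⟨y, rfl⟩ := (bij_sum b h₀).2 p
  simp only at hp ⊢
  rw [a_sum b hb ι θ a ha] at hp
  have hy : co ι θ y = 0 := (bij_sum b h₁).1 (hp.trans (by simp))
  suffices y = 0 by rw [this]; simp
  by_contra hne
  obtain ⟨d, hd, hmax⟩ : ∃ d ∈ y.support, ∀ i ∈ y.support, i ≤ d :=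
    ⟨_, y.support.max'_mem (Finsupp.support_nonempty_iff.2 hne), fun i hi => y.support.le_max' i hi⟩
  have := co_apply_succ ι θ y d
  rw [hy, Finsupp.coe_zero, Pi.zero_apply, show y (d + 1) = 0 from
    Finsupp.notMem_support_iff.1 fun h => absurd (hmax _ h) (by omega), map_zero, sub_zero] at this
  exact Finsupp.mem_support_iff.1 hd ((map_eq_zero_iff ι hι).1 this.symm)

variable (hθ : ∀ y, e (θ y) = t • e (ι y)) (he : Function.Injective e)
  (H : ∀ (z : N₁) (d : ℕ) (x : ℕ → N₁),
    t ^ d • e z = ∑ i ∈ Finset.range d, t ^ i • e (x i) → z ∈ LinearMap.range ι)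

include ha hb h₀ h₁ hq hθ he H in
theorem exact_aq : Function.Exact a q := by
  classical
  have hq' : ∀ x : ℕ →₀ N₁, q (x.sum fun i n => b i • g₁ n) = x.sum fun i n => t ^ i • e n := fun x => by
    simp [Finsupp.sum, map_sum, map_smul, hq, hb]
  intro p
  constructor
  · intro hp
    obtain ⟨x, rfl⟩ := (bij_sum b h₁).2 p
    suffices h : ∀ (d : ℕ) (x : ℕ →₀ N₁), (∀ i, d ≤ i → x i = 0) →
        (x.sum fun i n => t ^ i • e n) = 0 → ∃ y, co ι θ y = x by
      simp only at hp
      rw [hq'] at hp
      obtain ⟨d, hd⟩ : ∃ d, ∀ i, d ≤ i → x i = 0 :=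
        ⟨x.support.sup id + 1, fun i hi => Finsupp.notMem_support_iff.1 fun h => by
          have := Finset.le_sup (f := id) h; simp at this; omega⟩
      obtain ⟨y, rfl⟩ := h d x hd hp
      exact ⟨_, a_sum b hb ι θ a ha y⟩
    intro d
    induction d with
    | zero => intro x hx _; exact ⟨0, by rw [map_zero]; exact Finsupp.ext fun i => (hx i (Nat.zero_le i)).symm⟩
    | succ d ih =>
      intro x hx h0
      rw [x.sum_of_support_subset (s := Finset.range (d + 1)) (fun i hi => Finset.mem_range.2 <| by
        by_contra hlt; exact Finsupp.mem_support_iff.1 hi (hx i (by omega))) _ (by simp),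
        Finset.sum_range_succ] at h0
      have hz : x d ∈ LinearMap.range ι := H (x d) d (fun i => -x i) (by
        rw [eq_neg_of_add_eq_zero_right h0]
        simp [Finset.sum_neg_distrib])
      obtain ⟨w, hw⟩ := hz
      cases d with
      | zero =>
        refine ih x (fun i _ => ?_) ?_
        · rcases Nat.eq_zero_or_pos i with rfl | hi
          · simp only [Finset.range_zero, Finset.sum_empty, zero_add, pow_zero, one_smul] at h0
            have : e (x 0) = 0 := h0
            have h' := H (x 0) 0 (fun _ => 0) (by simp [this])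
            exact (map_eq_zero_iff e he).1 this
          · exact hx i hi
        · rw [Finsupp.sum_of_support_subset x (s := Finset.range 1) (fun i hi => Finset.mem_range.2 <| by
            by_contra hlt; exact Finsupp.mem_support_iff.1 hi (hx i (by omega))) _ (by simp)]
          simpa using h0
      | succ d =>
        obtain ⟨y, hy⟩ := ih (x - co ι θ (Finsupp.single d w)) (fun i hi => by
            obtain ⟨i, rfl⟩ := Nat.exists_eq_add_of_le' (show 1 ≤ i by omega)
            rw [Finsupp.sub_apply, co_apply_succ]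
            rcases eq_or_lt_of_le hi with h | h
            · obtain rfl : i = d := by omega
              simp [hw]
            · rw [hx (i + 1) (by omega), Finsupp.single_eq_of_ne (by omega), Finsupp.single_eq_of_ne (by omega)]
              simp) (by
            rw [← hq', show ((x - co ι θ (Finsupp.single d w)).sum fun i n => b i • g₁ n) = (x.sum fun i n => b i • g₁ n) - ((co ι θ (Finsupp.single d w)).sum fun i n => b i • g₁ n) from Finsupp.sum_sub_index (fun i u v => by rw [map_sub, smul_sub]), map_sub, hq', ← a_sum b hb ι θ a ha,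
              Finsupp.sum_single_index (by simp), map_smul, ha, smul_sub, map_sub, map_smul, map_smul,
              map_smul, hq, hq, hθ, sub_self, sub_zero,
              x.sum_of_support_subset (s := Finset.range (d + 1 + 1)) (fun i hi => Finset.mem_range.2 <| by
                by_contra hlt; exact Finsupp.mem_support_iff.1 hi (hx i (by omega))) _ (by simp),
              Finset.sum_range_succ, h0])
        exact ⟨y + Finsupp.single d w, by rw [map_add, hy, sub_add_cancel]⟩
  · rintro ⟨p', rfl⟩
    obtain ⟨y, rfl⟩ := (bij_sum b h₀).2 p'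
    simp only
    induction y using Finsupp.induction_linear with
    | zero => simp
    | add f g hf hg => rw [Finsupp.sum_add_index' (by simp) (by simp [smul_add]), map_add, map_add, hf, hg, add_zero]
    | single i n =>
      rw [Finsupp.sum_single_index (by simp), map_smul, ha, smul_sub, map_sub, map_smul, map_smul, map_smul,
        hq, hq, hθ, sub_self]

end Exact

end Groth.L29.AffLine
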