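import Groth.Agent.L29.AffLine.Surj
import Groth.Agent.L29.K.KcohNil
import Groth.Agent.L28.LocCoh.Snake

/-! A left inverse of pullback to the affine line on `K₀`. -/

set_option autoImplicit false
set_option backward.isDefEq.respectTransparency false
set_option backward.isDefEq.respectTransparency.types false
set_option linter.style.haveILetI false
universe u v w

open CategoryTheory CategoryTheory.Limits AlgebraicGeometry TopologicalSpace Opposite

noncomputable section

namespace Groth.L29.AffLine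

section Euler

variable {C : Type u} [Category.{v} C] [Abelian C] {G : Type w} [AddCommGroup G] (P : C → Prop) (f : C → G)
  (hiso : ∀ {A B : C}, (A ≅ B) → P A → f A = f B)
  (hadd : ∀ S : ShortComplex C, S.ShortExact → P S.X₁ → P S.X₂ → P S.X₃ → f S.X₂ = f S.X₁ + f S.X₃)
  (himage : ∀ {A B : C} (a : A ⟶ B), P A → P B → P (Abelian.image a))

include hadd himage in
theorem split_exact {A B D : C} (a : A ⟶ B) (b : B ⟶ D) (w : a ≫ b = 0) (h : (ShortComplex.mk a b w).Exact)
    (hA : P A) (hB : P B) (hD : P D) : f B = f (Abelian.image a) + f (Abelian.image b) := by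
  have w1 : a ≫ Abelian.factorThruImage b = 0 := by
    rw [← cancel_mono (Abelian.image.ι b), zero_comp, Category.assoc, Abelian.image.fac, w]
  have w2 : Abelian.image.ι a ≫ Abelian.factorThruImage b = 0 := by
    rw [← cancel_epi (Abelian.factorThruImage a), comp_zero, ← Category.assoc, Abelian.image.fac, w1]
  have h1 : (ShortComplex.mk a (Abelian.factorThruImage b) w1).Exact := by
    let φ : ShortComplex.mk a (Abelian.factorThruImage b) w1 ⟶ ShortComplex.mk a b w :=
      ShortComplex.homMk (𝟙 _) (𝟙 _) (Abelian.image.ι b) (by simp) (by simp)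
    haveI : Epi φ.τ₁ := inferInstanceAs (Epi (𝟙 A))
    haveI : IsIso φ.τ₂ := inferInstanceAs (IsIso (𝟙 B))
    haveI : Mono φ.τ₃ := inferInstanceAs (Mono (Abelian.image.ι b))
    exact (ShortComplex.exact_iff_of_epi_of_isIso_of_mono φ).2 h
  let ψ : ShortComplex.mk a (Abelian.factorThruImage b) w1 ⟶
      ShortComplex.mk (Abelian.image.ι a) (Abelian.factorThruImage b) w2 :=
    ShortComplex.homMk (Abelian.factorThruImage a) (𝟙 _) (𝟙 _) (by simp) (by simp)
  haveI : Epi ψ.τ₁ := inferInstanceAs (Epi (Abelian.factorThruImage a))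
  haveI : IsIso ψ.τ₂ := inferInstanceAs (IsIso (𝟙 B))
  haveI : Mono ψ.τ₃ := inferInstanceAs (Mono (𝟙 (Abelian.image b)))
  exact hadd (ShortComplex.mk (Abelian.image.ι a) (Abelian.factorThruImage b) w2)
    { exact := (ShortComplex.exact_iff_of_epi_of_isIso_of_mono ψ).1 h1 } (himage a hA hB) hB (himage b hB hD)

include hadd himage hiso in
theorem six_term {X₁ X₂ X₃ X₄ X₅ X₆ : C} (a : X₁ ⟶ X₂) (b : X₂ ⟶ X₃) (c : X₃ ⟶ X₄) (d : X₄ ⟶ X₅)
    (e : X₅ ⟶ X₆) [Mono a] [Epi e] (w1 : a ≫ b = 0) (w2 : b ≫ c = 0) (w3 : c ≫ d = 0) (w4 : d ≫ e = 0)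
    (e1 : (ShortComplex.mk a b w1).Exact) (e2 : (ShortComplex.mk b c w2).Exact)
    (e3 : (ShortComplex.mk c d w3).Exact) (e4 : (ShortComplex.mk d e w4).Exact)
    (h1 : P X₁) (h2 : P X₂) (h3 : P X₃) (h4 : P X₄) (h5 : P X₅) (h6 : P X₆) :
    f X₅ - f X₂ = (f X₄ - f X₁) + (f X₆ - f X₃) := by
  haveI : IsIso (Abelian.factorThruImage a) := by
    haveI : Mono (Abelian.factorThruImage a) := mono_of_mono_fac (Abelian.image.fac a)
    exact isIso_of_mono_of_epi _
  haveI : IsIso (Abelian.image.ι e) := by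
    haveI : Epi (Abelian.image.ι e) := epi_of_epi_fac (Abelian.image.fac e)
    exact isIso_of_mono_of_epi _
  rw [split_exact P f hadd himage a b w1 e1 h1 h2 h3, split_exact P f hadd himage b c w2 e2 h2 h3 h4,
    split_exact P f hadd himage c d w3 e3 h3 h4 h5, split_exact P f hadd himage d e w4 e4 h4 h5 h6,
    ← hiso (asIso (Abelian.factorThruImage a)) h1, hiso (asIso (Abelian.image.ι e)) (himage e h5 h6)]
  abel

end Euler

variable {X : Scheme.{u}} [AlgebraicGeometry.IsNoetherian X]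

/-- coherent modules killed by the coordinate come from the zero section -/
theorem killed_of_t {Q : (Ln X).Modules} (hQ : Coh.IsCoh Q) (h : TwSh.scalarEnd Q (t X) = 0) :
    ClSub.KilledByIdeal (zsec X).ker Q := by
  have hle : (zsec X).ker ≤ Groth.L17.KilledUnit.annIdeal Q hQ := by
    refine Scheme.IdealSheafData.le_of_iSup_eq_top
      (fun V : X.affineOpens => ⟨(pr X) ⁻¹ᵁ V.1, V.2.preimage (pr X)⟩) ?_ fun V a ha => ?_
    · rw [← Scheme.Hom.preimage_iSup, iSup_affineOpens_eq_top, Scheme.Hom.preimage_top]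
    · rw [Scheme.Hom.ker_apply, RingHom.mem_ker] at ha
      have hev : ev V.1 a = 0 := by
        show (X.presheaf.map _) ((zsec X).app _ a) = 0
        rw [ha, map_zero]
      obtain ⟨b, rfl⟩ := t_dvd V.2 a hev
      refine Module.mem_annihilator.2 fun m => ?_
      rw [mul_comm, mul_smul]
      exact (congrArg (b • ·) (congr(Scheme.Modules.Hom.app $h ((pr X) ⁻¹ᵁ V.1) m))).trans (smul_zero _)
  exact fun U a ha => Groth.L17.KilledUnit.killed_annIdeal Q hQ U a (hle U ha)

/-- multiplication by the coordinate, naturally -/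
def η : 𝟭 (Ln X).Modules ⟶ 𝟭 (Ln X).Modules where
  app M := TwSh.scalarEnd M (t X)
  naturality _ _ f := smul_scalarEnd_natural f (t X)

/-- coherent and coming from the zero section -/
abbrev AZ (M : (Ln X).Modules) : Prop := Groth.L29.KcohNil.A (zsec X) M

theorem AZ_of_t {Q : (Ln X).Modules} (hQ : Coh.IsCoh Q) (h : TwSh.scalarEnd Q (t X) = 0) : AZ Q :=
  haveI := hQ.1
  ⟨hQ, Groth.L17.KilledUnit.isIso_of_killed (zsec X) Q (killed_of_t hQ h)⟩

theorem AZ_ker {M : (Ln X).Modules} (hM : Coh.IsCoh M) : AZ (kernel (TwSh.scalarEnd M (t X))) := by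
  refine AZ_of_t (Groth.L16.CohKernel.isCoh_kernel_cokernel hM hM _).1 ?_
  rw [← cancel_mono (kernel.ι (TwSh.scalarEnd M (t X))), zero_comp, ← smul_scalarEnd_natural, kernel.condition]

theorem AZ_coker {M : (Ln X).Modules} (hM : Coh.IsCoh M) : AZ (cokernel (TwSh.scalarEnd M (t X))) := by
  refine AZ_of_t (Groth.L16.CohKernel.isCoh_kernel_cokernel hM hM _).2 ?_
  rw [← cancel_epi (cokernel.π (TwSh.scalarEnd M (t X))), comp_zero, smul_scalarEnd_natural, cokernel.condition]

/-- derived restriction to the zero section, on classes -/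
def σ (M : (Ln X).Modules) : SGA6.Kcoh X :=
  Groth.L29.KcohNil.f (zsec X) (cokernel (TwSh.scalarEnd M (t X))) -
    Groth.L29.KcohNil.f (zsec X) (kernel (TwSh.scalarEnd M (t X)))

theorem push_exact : (Scheme.Modules.pushforward (zsec X)).Additive ∧
    PreservesFiniteLimits (Scheme.Modules.pushforward (zsec X)) ∧
    PreservesFiniteColimits (Scheme.Modules.pushforward (zsec X)) := by
  haveI := Groth.L17.ClosedPush.preservesColimits_push (zsec X)
  exact ⟨inferInstance, inferInstance, inferInstance⟩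

theorem σ_add (S : ShortComplex (Ln X).Modules) (hS : S.ShortExact) (h₁ : Coh.IsCoh S.X₁)
    (h₂ : Coh.IsCoh S.X₂) (h₃ : Coh.IsCoh S.X₃) : σ S.X₂ = σ S.X₁ + σ S.X₃ := by
  obtain ⟨_, _, _⟩ := push_exact (X := X)
  let N := Groth.L28.LocCoh.snake η S hS
  haveI : Mono N.L₀.f := Groth.L28.LocCoh.mono_kerComplex η S hS
  haveI : Epi N.L₂.g := hS.epi_g
  haveI : Epi N.L₃.g := N.epi_L₃_g
  refine six_term (fun M => AZ M) (Groth.L29.KcohNil.f (zsec X)) ?_ ?_ ?_ N.L₀.f N.L₀.g N.δ N.L₃.f N.L₃.g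
    N.L₀.zero N.L₁'.zero N.L₂'.zero N.L₃.zero N.L₀_exact N.L₁'_exact N.L₂'_exact N.L₃_exact
    (AZ_ker h₁) (AZ_ker h₂) (AZ_ker h₃) (AZ_coker h₁) (AZ_coker h₂) (AZ_coker h₃)
  · intro A B e hA
    exact Groth.L13.KcohNilp.cl_iso ((Scheme.Modules.pullback (zsec X)).mapIso e)
      (Groth.L29.KcohNil.isCoh_pull (zsec X) hA)
  · exact fun S hS a b c => Groth.L29.KcohNil.f_add (zsec X) hS a b c
  · intro A B a hA hB
    haveI := hB.1.1
    exact (Groth.L29.KcohNil.sub_quot (zsec X) (Groth.L16.Devissage.shortExact_image_cokernel a) hB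
      (Groth.L16.CohSupport.isCoh_image hA.1 a)).1

theorem σ_pull {N : X.Modules} (hN : Coh.IsCoh N) :
    σ (M0 X N) = KZero.clSub (fun M : X.Modules => Coh.IsCoh M) N := by
  obtain ⟨_, _, _⟩ := push_exact (X := X)
  haveI : Coh.IsQCoh N := hN.1
  haveI := mono_τ X N
  obtain ⟨e⟩ := pushIso X N hN
  haveI := Groth.L17.ClosedPush.isIso_counit (zsec X)
  let e' : (Scheme.Modules.pullback (zsec X)).obj (Q X N) ≅ N :=
    (Scheme.Modules.pullback (zsec X)).mapIso e.symm ≪≫
      (asIso (Scheme.Modules.pullbackPushforwardAdjunction (zsec X)).counit).app N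
  have hz : IsZero ((Scheme.Modules.pullback (zsec X)).obj (kernel (τ X N))) := by
    haveI : (Scheme.Modules.pullback (zsec X)).PreservesZeroMorphisms :=
      Functor.preservesZeroMorphisms_of_map_zero_object (Scheme.Modules.pullback (zsec X)).mapZeroObject
    exact Functor.map_isZero _ (IsZero.of_iso (isZero_zero _) (kernel.ofMono (τ X N)))
  show Groth.L29.KcohNil.f (zsec X) (Q X N) - Groth.L29.KcohNil.f (zsec X) (kernel (τ X N)) = _
  rw [Groth.L29.KcohNil.f, Groth.L29.KcohNil.f, Groth.L13.KcohNilp.cl_iso e'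
      (Groth.L29.KcohNil.isCoh_pull (zsec X) (AZ_coker (isCoh_M X N hN))),
    Groth.L29.KSub.clSub_zero _ hz (Groth.L16.Devissage.isCoh_of_isZero hz), sub_zero]

/-- homotopy invariance for the affine line -/
theorem bijective [(Scheme.Modules.pullback (pr X)).Additive] [PreservesFiniteLimits (Scheme.Modules.pullback (pr X))]
    [PreservesFiniteColimits (Scheme.Modules.pullback (pr X))]
    (hf : ∀ N : X.Modules, Coh.IsCoh N → Coh.IsCoh ((Scheme.Modules.pullback (pr X)).obj N)) :
    Function.Bijective (SGA6.mapSub (Scheme.Modules.pullback (pr X)) (fun N : X.Modules => Coh.IsCoh N)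
      (fun N : (Ln X).Modules => Coh.IsCoh N) hf) := by
  let L := Groth.L29.KSub.lift (P := fun M : (Ln X).Modules => Coh.IsCoh M) σ σ_add
  have h : L.comp (SGA6.mapSub (Scheme.Modules.pullback (pr X)) (fun N : X.Modules => Coh.IsCoh N)
      (fun N : (Ln X).Modules => Coh.IsCoh N) hf) = AddMonoidHom.id _ :=
    Groth.L29.KSub.hom_ext fun N hN => by
      rw [AddMonoidHom.comp_apply, Groth.L29.KcohLoc.mapSub_cl _ _ hN, Groth.L29.KSub.lift_clSub _ _ (hf N hN)]
      exact σ_pull hN
  refine ⟨Function.LeftInverse.injective (g := L) (DFunLike.congr_fun h), fun y => ?_⟩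
  refine AddMonoidHom.mem_range.1 (Groth.L29.KcohLoc.mem_of_cl _ (fun M hM => ?_) y)
  haveI := hM.1
  exact cl_mem_range hf hM

end Groth.L29.AffLine
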