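import Groth.Agent.L29.AffLine.Inj
import Groth.Agent.L07.Chevalley
import Groth.Agent.L17.FlatBase.CxTools

/-! Homotopy invariance of `K₀` of coherent modules for affine spaces. -/

set_option autoImplicit false
set_option backward.isDefEq.respectTransparency false
set_option backward.isDefEq.respectTransparency.types false
set_option linter.style.haveILetI false
universe u

open CategoryTheory CategoryTheory.Limits AlgebraicGeometry

noncomputable section

namespace Groth.L29.AffLine

variable {X Y Z : Scheme.{u}} [AlgebraicGeometry.IsNoetherian X] [AlgebraicGeometry.IsNoetherian Y]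
  [AlgebraicGeometry.IsNoetherian Z]

local notation "cl" => KZero.clSub (fun M : Scheme.Modules _ => Coh.IsCoh M)

/-- flat pullback on classes -/
def kpull (f : Y ⟶ X) [Flat f] : SGA6.Kcoh X →+ SGA6.Kcoh Y :=
  Groth.L29.KSub.lift (P := fun M : X.Modules => Coh.IsCoh M)
    (fun M => cl ((Scheme.Modules.pullback f).obj M)) fun S hS h₁ h₂ h₃ => by
      haveI := Groth.L17.CxTools.preservesFiniteLimits_pullback f
      haveI : PreservesColimitsOfSize.{0, 0} (Scheme.Modules.pullback f) :=
        (Scheme.Modules.pullbackPushforwardAdjunction f).leftAdjoint_preservesColimits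
      haveI : PreservesFiniteColimits (Scheme.Modules.pullback f) := inferInstance
      exact Groth.L29.KSub.clSub_shortExact (fun M : Y.Modules => Coh.IsCoh M)
        (hS.map_of_exact (Scheme.Modules.pullback f)) (Groth.L16.AffineBC.isCoh_pullback f h₁)
        (Groth.L16.AffineBC.isCoh_pullback f h₂) (Groth.L16.AffineBC.isCoh_pullback f h₃)

theorem kpull_cl (f : Y ⟶ X) [Flat f] {M : X.Modules} (hM : Coh.IsCoh M) :
    kpull f (cl M) = cl ((Scheme.Modules.pullback f).obj M) :=
  Groth.L29.KSub.lift_clSub _ _ hM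

theorem mapSub_eq_kpull (f : Y ⟶ X) [Flat f] [(Scheme.Modules.pullback f).Additive]
    [PreservesFiniteLimits (Scheme.Modules.pullback f)] [PreservesFiniteColimits (Scheme.Modules.pullback f)]
    (hf : ∀ N : X.Modules, Coh.IsCoh N → Coh.IsCoh ((Scheme.Modules.pullback f).obj N)) :
    SGA6.mapSub (Scheme.Modules.pullback f) (fun N : X.Modules => Coh.IsCoh N)
      (fun N : Y.Modules => Coh.IsCoh N) hf = kpull f :=
  Groth.L29.KSub.hom_ext fun N hN => by rw [Groth.L29.KcohLoc.mapSub_cl _ _ hN, kpull_cl f hN]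

theorem kpull_comp (g : Z ⟶ Y) (f : Y ⟶ X) [Flat g] [Flat f] : kpull (g ≫ f) = (kpull g).comp (kpull f) :=
  Groth.L29.KSub.hom_ext fun M hM => by
    rw [AddMonoidHom.comp_apply, kpull_cl _ hM, kpull_cl _ hM, kpull_cl _ (Groth.L16.AffineBC.isCoh_pullback f hM)]
    exact (Groth.L13.KcohNilp.cl_iso ((Scheme.Modules.pullbackComp g f).app M)
      (Groth.L16.AffineBC.isCoh_pullback g (Groth.L16.AffineBC.isCoh_pullback f hM))).symm

theorem kpull_congr {f g : Y ⟶ X} [Flat f] [Flat g] (h : f = g) : kpull f = kpull g := by subst h; rfl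

theorem kpull_id : kpull (𝟙 X) = AddMonoidHom.id _ :=
  Groth.L29.KSub.hom_ext fun M hM => by
    rw [AddMonoidHom.id_apply, kpull_cl _ hM]
    exact Groth.L13.KcohNilp.cl_iso ((Scheme.Modules.pullbackId X).app M) (Groth.L16.AffineBC.isCoh_pullback _ hM)

theorem bijective_kpull_of_isIso (f : Y ⟶ X) [IsIso f] : Function.Bijective (kpull f) := by
  refine Function.bijective_iff_has_inverse.2 ⟨kpull (inv f), fun x => ?_, fun y => ?_⟩
  · rw [← AddMonoidHom.comp_apply, ← kpull_comp, kpull_congr (IsIso.inv_hom_id f), kpull_id]; rfl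
  · rw [← AddMonoidHom.comp_apply, ← kpull_comp, kpull_congr (IsIso.hom_inv_id f), kpull_id]; rfl

theorem bijective_kpull_pr : haveI := Groth.L07.Chevalley.flat_over (n := σ1.{u}) X
    Function.Bijective (kpull (pr X)) := by
  haveI := Groth.L07.Chevalley.flat_over (n := σ1.{u}) X
  haveI := Groth.L17.CxTools.preservesFiniteLimits_pullback (pr X)
  haveI : (Scheme.Modules.pullback (pr X)).Additive := inferInstance
  haveI : PreservesColimitsOfSize.{0, 0} (Scheme.Modules.pullback (pr X)) :=
    (Scheme.Modules.pullbackPushforwardAdjunction (pr X)).leftAdjoint_preservesColimits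
  haveI : PreservesFiniteColimits (Scheme.Modules.pullback (pr X)) := inferInstance
  have hf := fun (N : X.Modules) (hN : Coh.IsCoh N) => Groth.L16.AffineBC.isCoh_pullback (pr X) hN
  rw [← mapSub_eq_kpull (pr X) hf]
  exact bijective hf

abbrev σr (r : ℕ) : Type u := ULift.{u} (Fin r)

instance (S : Scheme.{u}) [AlgebraicGeometry.IsNoetherian S] (r : ℕ) :
    AlgebraicGeometry.IsNoetherian (𝔸(σr.{u} r; S)) :=
  haveI := LocallyOfFiniteType.isLocallyNoetherian (𝔸(σr.{u} r; S) ↘ S)
  haveI := QuasiCompact.compactSpace_of_compactSpace (𝔸(σr.{u} r; S) ↘ S)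
  { }

/-- adding one coordinate -/
def splitIso (S : Scheme.{u}) (r : ℕ) : Ln (𝔸(σr.{u} r; S)) ≅ 𝔸(σr.{u} (r + 1); S) where
  hom := AffineSpace.homOfVector (pr _ ≫ (𝔸(σr.{u} r; S) ↘ S))
    (fun i => Fin.cases (t (𝔸(σr.{u} r; S))) (fun j => (pr (𝔸(σr.{u} r; S))).appTop (AffineSpace.coord S (ULift.up j))) i.down)
  inv := AffineSpace.homOfVector
    (AffineSpace.homOfVector (𝔸(σr.{u} (r + 1); S) ↘ S) fun j => AffineSpace.coord S (ULift.up j.down.succ))
    fun _ => AffineSpace.coord S (ULift.up 0)
  hom_inv_id := by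
    refine AffineSpace.hom_ext ?_ ?_
    · refine AffineSpace.hom_ext ?_ ?_
      · simp
      · rintro ⟨j⟩
        simp
    · rintro ⟨i⟩
      obtain rfl : i = 0 := Subsingleton.elim _ _
      simp
  inv_hom_id := by
    refine AffineSpace.hom_ext ?_ ?_
    · rw [Category.assoc, AffineSpace.homOfVector_over, Category.id_comp]
      erw [AffineSpace.homOfVector_over_assoc]
      rw [AffineSpace.homOfVector_over]
    · rintro ⟨i⟩
      induction i using Fin.cases with
      | zero => simp
      | succ j =>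
        simp only [Scheme.Hom.comp_appTop, CommRingCat.comp_apply, AffineSpace.homOfVector_appTop_coord,
          Fin.cases_succ, Scheme.Hom.id_appTop, CommRingCat.id_apply]
        rw [← CommRingCat.comp_apply, ← Scheme.Hom.comp_appTop, AffineSpace.homOfVector_over,
          AffineSpace.homOfVector_appTop_coord]

theorem splitIso_over (S : Scheme.{u}) (r : ℕ) :
    (splitIso S r).inv ≫ pr _ ≫ (𝔸(σr.{u} r; S) ↘ S) = 𝔸(σr.{u} (r + 1); S) ↘ S := by
  dsimp only [splitIso]
  erw [AffineSpace.homOfVector_over_assoc]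
  rw [AffineSpace.homOfVector_over]

theorem bijective_kpull_over (S : Scheme.{u}) [AlgebraicGeometry.IsNoetherian S] :
    ∀ r : ℕ, haveI := Groth.L07.Chevalley.flat_over (n := σr.{u} r) S
      Function.Bijective (kpull (𝔸(σr.{u} r; S) ↘ S))
  | 0 => by
    haveI : IsEmpty (σr.{u} 0) := ⟨fun i => i.down.elim0⟩
    exact bijective_kpull_of_isIso _
  | r + 1 => by
    haveI := Groth.L07.Chevalley.flat_over (n := σr.{u} (r + 1)) S
    haveI := Groth.L07.Chevalley.flat_over (n := σr.{u} r) S
    haveI := Groth.L07.Chevalley.flat_over (n := σ1.{u}) (𝔸(σr.{u} r; S))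
    rw [kpull_congr (splitIso_over S r).symm, kpull_comp, kpull_comp]
    exact (bijective_kpull_of_isIso (splitIso S r).inv).comp
      (bijective_kpull_pr.comp (bijective_kpull_over S r))

end Groth.L29.AffLine
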