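import Groth.Agent.L29.AffLine.Coord
import Groth.Agent.L16.AffineBC.Pullback
import Groth.Agent.L17.KilledUnit
import Groth.Agent.L17.CohClass
import Groth.Agent.L29.K.KcohLoc
import Groth.Prelude.Def_TwSh

/-! Modules pushed forward along the zero section of the affine line have class zero. -/

set_option autoImplicit false
set_option backward.isDefEq.respectTransparency false
set_option backward.isDefEq.respectTransparency.types false
set_option linter.style.haveILetI false
universe u

open CategoryTheory CategoryTheory.Limits AlgebraicGeometry TopologicalSpace Opposite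
open Groth.L20.ModStalk (stalkModule germₗ isLocalizedModule_germ)

noncomputable section

namespace Groth.L29.AffLine

variable (X : Scheme.{u}) (N : X.Modules)

/-- the constant family with value `N` -/
abbrev M0 : (Ln X).Modules := (Scheme.Modules.pullback (pr X)).obj N

/-- multiplication by the coordinate -/
abbrev τ : M0 X N ⟶ M0 X N := TwSh.scalarEnd (M0 X N) (t X)

theorem injective_sections [Coh.IsQCoh N] {V : X.Opens} (hV : IsAffineOpen V) :
    Function.Injective fun m : Γ(M0 X N, (pr X) ⁻¹ᵁ V) => tV V • m := by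
  letI : Algebra Γ(X, V) Γ(Ln X, (pr X) ⁻¹ᵁ V) := ((pr X).appLE V ((pr X) ⁻¹ᵁ V) le_rfl).hom.toAlgebra
  letI := Module.compHom Γ(M0 X N, (pr X) ⁻¹ᵁ V) ((pr X).appLE V ((pr X) ⁻¹ᵁ V) le_rfl).hom
  haveI : IsScalarTower Γ(X, V) Γ(Ln X, (pr X) ⁻¹ᵁ V) Γ(M0 X N, (pr X) ⁻¹ᵁ V) :=
    IsScalarTower.of_algebraMap_smul fun _ _ => rfl
  exact injective_smul_baseChange { ev V with commutes' := fun a => ev_pr V a } (tV V) (regular_t hV)
    (t_dvd hV) (ev_t V) (Groth.L16.AffineBC.isBaseChange_pull (pr X) N hV (hV.preimage (pr X)) le_rfl)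

theorem mono_τ [Coh.IsQCoh N] : Mono (τ X N) := by
  refine (Groth.L21.Mod.mono_iff_stalk_injective _).2 fun y => ?_
  obtain ⟨_, ⟨V, hV, rfl⟩, hyV, -⟩ :=
    X.isBasis_affineOpens.exists_subset_of_mem_open (Set.mem_univ (pr X y)) isOpen_univ
  let W := (pr X) ⁻¹ᵁ V
  have hy : y ∈ W := hyV
  haveI : Coh.IsQCoh (M0 X N) := Groth.L16.AffineBC.isQCoh_pullback (pr X) N
  letI := stalkModule (M0 X N) hy
  haveI := isLocalizedModule_germ (M0 X N) (hV.preimage (pr X)) hy
  let f : (M0 X N).presheaf.stalk y →+ (M0 X N).presheaf.stalk y :=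
    ((Groth.L21.Mod.stalkF (Ln X) y).map (τ X N)).hom
  have flin : ∀ (r : Γ(Ln X, W)) (q : (M0 X N).presheaf.stalk y), f (r • q) = r • f q := fun r q =>
    ((Groth.L00.Stk.F (Ln X) y).map (τ X N)).hom.map_smul ((Ln X).presheaf.germ W y hy r) q
  have fgerm : ∀ m : Γ(M0 X N, W), f (germₗ (M0 X N) hy m) = germₗ (M0 X N) hy (tV V • m) := fun m =>
    Groth.L17.ClosedPush.stk_map_germ (τ X N) y hy m
  refine (injective_iff_map_eq_zero f).2 fun q hq => ?_
  obtain ⟨⟨m, c⟩, hm : (c : Γ(Ln X, W)) • q = germₗ (M0 X N) hy m⟩ :=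
    IsLocalizedModule.surj ((hV.preimage (pr X)).primeIdealOf ⟨y, hy⟩).asIdeal.primeCompl
      (germₗ (M0 X N) hy) q
  have h0 : germₗ (M0 X N) hy (tV V • m) = germₗ (M0 X N) hy 0 := by
    rw [← fgerm, ← hm, flin, hq, smul_zero, map_zero]
  obtain ⟨d, hd⟩ := IsLocalizedModule.exists_of_eq
    (S := ((hV.preimage (pr X)).primeIdealOf ⟨y, hy⟩).asIdeal.primeCompl) h0
  have h1 : (d : Γ(Ln X, W)) • m = 0 := by
    refine injective_sections X N hV ?_
    show tV V • (d : Γ(Ln X, W)) • m = tV V • (0 : Γ(M0 X N, W))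
    rw [smul_comm, smul_zero]
    exact hd.trans (smul_zero _)
  refine ((Module.End.isUnit_iff _).1 (IsLocalizedModule.map_units (germₗ (M0 X N) hy) (d * c))).1 ?_
  rw [map_zero, Module.algebraMap_end_apply, Submonoid.coe_mul, mul_smul, hm, ← map_smul, h1, map_zero]

/-- the cokernel of multiplication by the coordinate -/
abbrev Q : (Ln X).Modules := cokernel (τ X N)

variable [AlgebraicGeometry.IsNoetherian X] (hN : Coh.IsCoh N)

instance : AlgebraicGeometry.IsNoetherian (Ln X) :=
  haveI := LocallyOfFiniteType.isLocallyNoetherian (pr X)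
  haveI := QuasiCompact.compactSpace_of_compactSpace (pr X)
  { }

omit [AlgebraicGeometry.IsNoetherian X] in
theorem shortExact [Coh.IsQCoh N] :
    (ShortComplex.mk (τ X N) (cokernel.π (τ X N)) (cokernel.condition _)).ShortExact :=
  haveI := mono_τ X N
  { exact := ShortComplex.exact_of_g_is_cokernel _ (cokernelIsCokernel _)
    mono_f := inferInstance, epi_g := inferInstance }

include hN in
theorem isCoh_M : Coh.IsCoh (M0 X N) := Groth.L16.AffineBC.isCoh_pullback (pr X) hN

include hN in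
theorem isCoh_Q : Coh.IsCoh (Q X N) :=
  haveI : Coh.IsQCoh N := hN.1
  (Groth.L16.CohKernel.isCoh_kernel_cokernel (isCoh_M X N hN) (isCoh_M X N hN) (τ X N)).2

include hN in
theorem cl_Q : KZero.clSub (fun M : (Ln X).Modules => Coh.IsCoh M) (Q X N) = 0 := by
  haveI : Coh.IsQCoh N := hN.1
  exact left_eq_add.mp (Groth.L29.KSub.clSub_shortExact (fun M : (Ln X).Modules => Coh.IsCoh M)
    (shortExact X N) (isCoh_M X N hN) (isCoh_M X N hN) (isCoh_Q X N hN))

include hN in
theorem killed : ClSub.KilledByIdeal (zsec X).ker (Q X N) := by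
  have hQ := isCoh_Q X N hN
  haveI : Coh.IsQCoh (Q X N) := hQ.1
  haveI : Coh.IsQCoh (M0 X N) := (isCoh_M X N hN).1
  have hle : (zsec X).ker ≤ Groth.L17.KilledUnit.annIdeal (Q X N) hQ := by
    refine Scheme.IdealSheafData.le_of_iSup_eq_top
      (fun V : X.affineOpens => ⟨(pr X) ⁻¹ᵁ V.1, V.2.preimage (pr X)⟩) ?_ fun V a ha => ?_
    · rw [← Scheme.Hom.preimage_iSup, iSup_affineOpens_eq_top, Scheme.Hom.preimage_top]
    · rw [Scheme.Hom.ker_apply, RingHom.mem_ker] at ha
      have hev : ev V.1 a = 0 := by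
        show (X.presheaf.map _) ((zsec X).app _ a) = 0
        rw [ha, map_zero]
      obtain ⟨b, rfl⟩ := t_dvd V.2 a hev
      refine Module.mem_annihilator.2 fun m => ?_
      obtain ⟨m', rfl⟩ := Groth.L16.AffineBC.surjective_app_of_epi (cokernel.π (τ X N))
        (V.2.preimage (pr X)) m
      rw [mul_comm, mul_smul, ← Scheme.Modules.Hom.app_smul]
      exact (congrArg (b • ·) (congr(Scheme.Modules.Hom.app $(cokernel.condition (τ X N))
        ((pr X) ⁻¹ᵁ V.1) m'))).trans (smul_zero _)
  exact fun U a ha => Groth.L17.KilledUnit.killed_annIdeal (Q X N) hQ U a (hle U ha)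

include hN in
theorem pushIso : Nonempty ((Scheme.Modules.pushforward (zsec X)).obj N ≅ Q X N) := by
  haveI : Coh.IsQCoh (Q X N) := (isCoh_Q X N hN).1
  haveI := Groth.L17.KilledUnit.isIso_of_killed (zsec X) (Q X N) (killed X N hN)
  have h0 : (Scheme.Modules.pullback (zsec X)).map (τ X N) = 0 := by
    let adj := Scheme.Modules.pullbackPushforwardAdjunction (zsec X)
    apply (adj.homEquiv _ _).injective
    rw [Adjunction.homEquiv_unit, Adjunction.homEquiv_unit, Functor.map_zero, comp_zero]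
    refine Eq.trans (adj.unit.naturality (τ X N)).symm ?_
    refine Scheme.Modules.hom_ext _ _ fun W => ?_
    ext m
    show (adj.unit.app (M0 X N)).app W ((τ X N).app W m) = 0
    rw [TwSh.scalarEnd_app_apply]
    refine ((adj.unit.app (M0 X N)).app_smul _ m).trans ?_
    let m' : Γ((Scheme.Modules.pullback (zsec X)).obj (M0 X N), (zsec X) ⁻¹ᵁ W) :=
      (adj.unit.app (M0 X N)).app W m
    show (zsec X).app W ((Ln X).presheaf.map (homOfLE le_top).op (t X)) • m' = 0
    rw [← CommRingCat.comp_apply, Scheme.Hom.naturality, CommRingCat.comp_apply,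
      show (zsec X).app ⊤ (t X) = 0 from zsec_t X, map_zero, zero_smul]
  let F := Scheme.Modules.pullback (zsec X)
  haveI : PreservesColimitsOfSize.{0, 0} F :=
    (Scheme.Modules.pullbackPushforwardAdjunction (zsec X)).leftAdjoint_preservesColimits
  refine ⟨?_ ≪≫ (asIso ((Scheme.Modules.pullbackPushforwardAdjunction (zsec X)).unit.app (Q X N))).symm⟩
  refine (Scheme.Modules.pushforward (zsec X)).mapIso ?_
  exact ((Scheme.Modules.pullbackId X).app N).symm ≪≫
    (Scheme.Modules.pullbackCongr (zsec_pr X).symm).app N ≪≫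
    ((Scheme.Modules.pullbackComp (zsec X) (pr X)).app N).symm ≪≫
    (cokernelZeroIsoTarget (X := F.obj (M0 X N))).symm ≪≫ cokernelIsoOfEq h0.symm ≪≫
    (PreservesCokernel.iso F (τ X N)).symm

include hN in
theorem cl_push_zsec :
    KZero.clSub (fun M : (Ln X).Modules => Coh.IsCoh M) ((Scheme.Modules.pushforward (zsec X)).obj N) = 0 := by
  obtain ⟨e⟩ := pushIso X N hN
  rw [Groth.L13.KcohNilp.cl_iso e (Groth.L16.CohSupport.isCoh_of_iso e.symm (isCoh_Q X N hN))]
  exact cl_Q X N hN

end Groth.L29.AffLine
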