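import Groth.Agent.L29.AffLine.Filt
import Groth.Agent.L29.AffLine.Cover
import Groth.Agent.L29.AffLine.Kill
import Groth.Agent.L29.DCoh.ExtendOpen
import Groth.Agent.L16.QcqsPush
import Groth.Agent.L16.Rees.RelVanish
import Groth.Agent.L18.Frame
import Groth.Agent.L04.KSh.Twist
import Mathlib.Algebra.Polynomial.Basis

/-! Classes of coherent modules on the affine line come from the base. -/

set_option autoImplicit false
set_option backward.isDefEq.respectTransparency false
set_option backward.isDefEq.respectTransparency.types false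
set_option linter.style.haveILetI false
universe u

open CategoryTheory CategoryTheory.Limits AlgebraicGeometry TopologicalSpace Opposite
open Groth.L18.Frame (rs rs_rs rs_self pull)

noncomputable section

namespace Groth.L29.AffLine

variable {X : Scheme.{u}}

/-- the powers of the coordinate form a basis -/
theorem exists_basis {V : X.Opens} (hV : IsAffineOpen V) :
    letI : Algebra Γ(X, V) Γ(Ln X, (pr X) ⁻¹ᵁ V) := ((pr X).appLE V ((pr X) ⁻¹ᵁ V) le_rfl).hom.toAlgebra
    ∃ b : Module.Basis ℕ Γ(X, V) Γ(Ln X, (pr X) ⁻¹ᵁ V), ∀ i, b i = tV V ^ i := by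
  letI : Algebra Γ(X, V) Γ(Ln X, (pr X) ⁻¹ᵁ V) := ((pr X).appLE V ((pr X) ⁻¹ᵁ V) le_rfl).hom.toAlgebra
  let f : Polynomial Γ(X, V) →ₐ[Γ(X, V)] Γ(Ln X, (pr X) ⁻¹ᵁ V) := Polynomial.aeval (tV V)
  have h : ⇑f ∘ ⇑(MvPolynomial.uniqueAlgEquiv Γ(X, V) σ1.{u}) = ⇑(poly V) := by
    have : f.toRingHom.comp (MvPolynomial.uniqueAlgEquiv Γ(X, V) σ1.{u}).toRingEquiv.toRingHom = poly V := by
      apply MvPolynomial.ringHom_ext
      · intro a
        simp [f, RingHom.algebraMap_toAlgebra]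
      · intro i
        simp [f]
    exact funext fun q => congr($this q)
  have hbij : Function.Bijective f :=
    ((MvPolynomial.uniqueAlgEquiv Γ(X, V) σ1.{u}).bijective.of_comp_iff _).1 (h ▸ bijective_poly hV)
  refine ⟨(Polynomial.basisMonomials Γ(X, V)).map (AlgEquiv.ofBijective f hbij).toLinearEquiv, fun i => ?_⟩
  rw [Module.Basis.map_apply, Polynomial.coe_basisMonomials]
  simp [f, Polynomial.aeval_monomial]

variable (M : (Ln X).Modules)

/-- the direct image -/
abbrev P : X.Modules := (Scheme.Modules.pushforward (pr X)).obj M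

/-- multiplication by the coordinate on the direct image -/
abbrev θ : P M ⟶ P M := (Scheme.Modules.pushforward (pr X)).map (TwSh.scalarEnd M (t X))

instance isQCoh_P [Coh.IsQCoh M] : Coh.IsQCoh (P M) := by
  exact Groth.L16.QcqsPush.isQCoh_push (M := M) (pr X)

/-- finitely many sections of the direct image come from one coherent module -/
theorem exists_gen [AlgebraicGeometry.IsNoetherian X] [Coh.IsQCoh M]
    (l : List ((V : X.Opens) × Γ(P M, V))) :
    ∃ (G : X.Modules) (φ : G ⟶ P M), Coh.IsCoh G ∧ ∀ z ∈ l, ∃ g, φ.app z.1 g = z.2 := by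
  induction l with
  | nil => exact ⟨Coh.structureModule X, 0, Groth.L16.Rees.RelVanish.isCoh_structureModule X, by simp⟩
  | cons z l ih =>
    obtain ⟨G, φ, hG, hgen⟩ := ih
    obtain ⟨V, m⟩ := z
    haveI := Groth.L29.DC.ExtendOpen.isNoetherian_opens V
    obtain ⟨G', φ', e, hP, he⟩ := Groth.L19.FPExtend.exists_fp_extension (P M) V
      (TopologicalSpace.NoetherianSpace.isCompact (V : Set X)) (Coh.structureModule V.toScheme)
      (Groth.L15.Ref.isFP_of_isCoh (Groth.L16.Rees.RelVanish.isCoh_structureModule _))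
      (Groth.L16.homOfSection ((P M).restrict V.ι) (rs (P M) V.ι_image_top.le m))
    haveI := Groth.L05.Prufer.isQCoh_of_isFP hP
    have hG' : Coh.IsCoh G' := ⟨inferInstance, Groth.L19.LimMod.isFT_of_isFP hP⟩
    refine ⟨G ⊞ G', biprod.desc φ φ', Groth.L16.Devissage.isCoh_biprod hG hG', ?_⟩
    rintro ⟨V', m'⟩ hz
    rcases List.mem_cons.1 hz with h | h
    · obtain ⟨rfl, hm⟩ := Sigma.mk.inj_iff.1 h
      cases hm
      have hy : ∃ y, φ'.app (V'.ι ''ᵁ ⊤) y = rs (P M) V'.ι_image_top.le m' := by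
        have h1 := (Groth.L16.homOfSection_app ((P M).restrict V'.ι) (rs (P M) V'.ι_image_top.le m') ⊤ 1).trans
          ((one_smul _ _).trans (rs_self _ _ _))
        refine ⟨e.inv.app ⊤ (1 : Γ(V'.toScheme, ⊤)), Eq.trans ?_ h1⟩
        have h2 := congr(Scheme.Modules.Hom.app (e.inv ≫ $he) ⊤ (1 : Γ(V'.toScheme, ⊤)))
        rw [Iso.inv_hom_id_assoc] at h2
        exact h2.symm
      obtain ⟨y, hy⟩ := hy
      refine ⟨(biprod.inr : G' ⟶ G ⊞ G').app V' (rs G' V'.ι_image_top.ge y), ?_⟩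
      show ((biprod.inr : G' ⟶ G ⊞ G') ≫ biprod.desc φ φ').app V' _ = _
      rw [biprod.inr_desc]
      rw [show φ'.app V' (rs G' V'.ι_image_top.ge y) = rs (P M) V'.ι_image_top.ge (φ'.app _ y) from
        ConcreteCategory.congr_hom (φ'.val.naturality (homOfLE V'.ι_image_top.ge).op) y, hy, rs_rs, rs_self]
    · obtain ⟨g, hg⟩ := hgen _ h
      refine ⟨(biprod.inl : G ⟶ G ⊞ G').app V' g, ?_⟩
      show ((biprod.inl : G ⟶ G ⊞ G') ≫ biprod.desc φ φ').app V' g = _
      rw [biprod.inl_desc]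
      exact hg

/-- sections over `V` in the image of a map to the direct image -/
abbrev rg {F : X.Modules} (j : F ⟶ P M) (V : X.Opens) : Submodule Γ(X, V) Γ(P M, V) :=
  LinearMap.range (appₗ j V)

variable {M}

theorem rg_image [AlgebraicGeometry.IsNoetherian X] [Coh.IsQCoh M] {F : X.Modules} (hF : Coh.IsCoh F)
    (j : F ⟶ P M) {V : X.Opens} (hV : IsAffineOpen V) :
    rg M (Abelian.image.ι j) V = rg M j V := by
  haveI := (Groth.L16.CohSupport.isCoh_image hF j).1
  haveI := hF.1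
  ext m
  constructor
  · rintro ⟨x, rfl⟩
    obtain ⟨y, rfl⟩ := Groth.L16.AffineBC.surjective_app_of_epi (Abelian.factorThruImage j) hV x
    exact ⟨y, congr(Scheme.Modules.Hom.app $((Abelian.image.fac j).symm) V y)⟩
  · rintro ⟨y, rfl⟩
    exact ⟨(Abelian.factorThruImage j).app V y, congr(Scheme.Modules.Hom.app $(Abelian.image.fac j) V y)⟩

theorem rg_desc {F F' : X.Modules} (j : F ⟶ P M) (j' : F' ⟶ P M) (V : X.Opens) :
    rg M (biprod.desc j j') V = rg M j V ⊔ rg M j' V := by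
  apply le_antisymm
  · rintro _ ⟨z, rfl⟩
    have h : z = ((biprod.inl : F ⟶ F ⊞ F').app V ((biprod.fst : F ⊞ F' ⟶ F).app V z)) +
        ((biprod.inr : F' ⟶ F ⊞ F').app V ((biprod.snd : F ⊞ F' ⟶ F').app V z)) :=
      (congr(Scheme.Modules.Hom.app $(biprod.total (X := F) (Y := F')) V z)).symm
    rw [h, map_add]
    refine Submodule.add_mem_sup ⟨(biprod.fst : F ⊞ F' ⟶ F).app V z, ?_⟩ ⟨(biprod.snd : F ⊞ F' ⟶ F').app V z, ?_⟩
    · exact (congr(Scheme.Modules.Hom.app $(biprod.inl_desc j j') V _)).symm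
    · exact (congr(Scheme.Modules.Hom.app $(biprod.inr_desc j j') V _)).symm
  · refine sup_le ?_ ?_
    · rintro _ ⟨y, rfl⟩
      exact ⟨(biprod.inl : F ⟶ F ⊞ F').app V y, congr(Scheme.Modules.Hom.app $(biprod.inl_desc j j') V y)⟩
    · rintro _ ⟨y, rfl⟩
      exact ⟨(biprod.inr : F' ⟶ F ⊞ F').app V y, congr(Scheme.Modules.Hom.app $(biprod.inr_desc j j') V y)⟩

/-- a coherent submodule of the direct image -/
structure CohSub (M : (Ln X).Modules) where
  F : X.Modules
  j : F ⟶ P M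
  hF : Coh.IsCoh F
  mono : Mono j

variable [AlgebraicGeometry.IsNoetherian X] [Coh.IsQCoh M]

/-- one step of the filtration -/
def CohSub.next (S : CohSub M) : CohSub M where
  F := Abelian.image (biprod.desc S.j (S.j ≫ θ M))
  j := Abelian.image.ι _
  hF := Groth.L16.CohSupport.isCoh_image (Groth.L16.Devissage.isCoh_biprod S.hF S.hF) _
  mono := inferInstance

/-- the filtration -/
def CohSub.iter (S : CohSub M) : ℕ → CohSub M
  | 0 => S
  | n + 1 => (CohSub.iter S n).next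

theorem rg_iter (S : CohSub M) {V : X.Opens} (hV : IsAffineOpen V) :
    ∀ n, rg M (S.iter n).j V = fil (appₗ (θ M) V) (rg M S.j V) n
  | 0 => rfl
  | n + 1 => by
    show rg M (Abelian.image.ι _) V = _
    rw [rg_image (Groth.L16.Devissage.isCoh_biprod (S.iter n).hF (S.iter n).hF) _ hV, rg_desc, rg_iter S hV n]
    show _ ⊔ _ = fil _ _ n ⊔ (fil _ _ n).map _
    congr 1
    rw [← rg_iter S hV n]
    exact (show LinearMap.range ((appₗ (θ M) V).comp (appₗ (S.iter n).j V)) = _ from LinearMap.range_comp _ _)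

theorem smul_scalarEnd_natural {A B : (Ln X).Modules} (f : A ⟶ B) (r : Γ(Ln X, ⊤)) :
    f ≫ TwSh.scalarEnd B r = TwSh.scalarEnd A r ≫ f := by
  refine Scheme.Modules.hom_ext _ _ fun W => ?_
  ext m
  show (TwSh.scalarEnd B r).app W (f.app W m) = f.app W ((TwSh.scalarEnd A r).app W m)
  rw [TwSh.scalarEnd_app_apply, TwSh.scalarEnd_app_apply]
  exact (f.app_smul _ m).symm

variable (S : CohSub M)

/-- inclusion of a step in the next -/
def incl : S.F ⟶ S.next.F := biprod.inl ≫ Abelian.factorThruImage _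

/-- multiplication by the coordinate into the next step -/
def shift : S.F ⟶ S.next.F := biprod.inr ≫ Abelian.factorThruImage _

theorem incl_j : incl S ≫ S.next.j = S.j := by simp [incl, CohSub.next]

theorem shift_j : shift S ≫ S.next.j = S.j ≫ θ M := by simp [shift, CohSub.next]

/-- the first map of the resolution -/
def aMap : M0 X S.F ⟶ M0 X S.next.F :=
  (Scheme.Modules.pullback (pr X)).map (incl S) ≫ τ X S.next.F - (Scheme.Modules.pullback (pr X)).map (shift S)

/-- the augmentation -/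
def qMap : M0 X S.next.F ⟶ M :=
  ((Scheme.Modules.pullbackPushforwardAdjunction (pr X)).homEquiv _ _).symm S.next.j

theorem a_q : aMap S ≫ qMap S = 0 := by
  let adj := Scheme.Modules.pullbackPushforwardAdjunction (pr X)
  rw [aMap, Preadditive.sub_comp, Category.assoc, ← smul_scalarEnd_natural, sub_eq_zero]
  apply (adj.homEquiv _ _).injective
  rw [qMap, adj.homEquiv_naturality_left, adj.homEquiv_naturality_right, Equiv.apply_symm_apply,
    adj.homEquiv_naturality_left, Equiv.apply_symm_apply, shift_j, reassoc_of% (incl_j S)]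

theorem qMap_pull {V : X.Opens} (x : Γ(S.next.F, V)) :
    (qMap S).app ((pr X) ⁻¹ᵁ V) (pull (pr X) S.next.F V x) = S.next.j.app V x := by
  have h := ((Scheme.Modules.pullbackPushforwardAdjunction (pr X)).homEquiv _ _).apply_symm_apply S.next.j
  rw [Adjunction.homEquiv_unit] at h
  exact congr(Scheme.Modules.Hom.app $h V x)

theorem map_pull {A B : X.Modules} (g : A ⟶ B) {V : X.Opens} (x : Γ(A, V)) :
    ((Scheme.Modules.pullback (pr X)).map g).app ((pr X) ⁻¹ᵁ V) (pull (pr X) A V x) = pull (pr X) B V (g.app V x) :=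
  congr(Scheme.Modules.Hom.app $((Scheme.Modules.pullbackPushforwardAdjunction (pr X)).unit.naturality g) V x).symm

theorem aMap_pull {V : X.Opens} (x : Γ(S.F, V)) :
    (aMap S).app ((pr X) ⁻¹ᵁ V) (pull (pr X) S.F V x) =
      tV V • pull (pr X) S.next.F V ((incl S).app V x) - pull (pr X) S.next.F V ((shift S).app V x) := by
  show (TwSh.scalarEnd (M0 X S.next.F) (t X)).app _ (((Scheme.Modules.pullback (pr X)).map (incl S)).app _ _) -
    ((Scheme.Modules.pullback (pr X)).map (shift S)).app _ _ = _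
  rw [map_pull, map_pull, TwSh.scalarEnd_app_apply]

theorem shortExact_res {G : CohSub M}
    (hG : ∀ x : X, ∃ V : X.Opens, x ∈ V ∧ IsAffineOpen V ∧
      Submodule.span Γ(Ln X, (pr X) ⁻¹ᵁ V)
        (Set.range fun g => (show Γ(M, (pr X) ⁻¹ᵁ V) from G.j.app V g)) = ⊤ ∧
      (∀ y ∈ fil (appₗ (θ M) V) (rg M G.j V) 1, ∀ d, ((appₗ (θ M) V) ^ d) y ∈ fil (appₗ (θ M) V) (rg M G.j V) (0 + d) →
        y ∈ fil (appₗ (θ M) V) (rg M G.j V) 0)) :
    (ShortComplex.mk (aMap G) (qMap G) (a_q G)).ShortExact := by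
  haveI : Coh.IsQCoh G.F := G.hF.1
  haveI : Coh.IsQCoh G.next.F := G.next.hF.1
  haveI : Coh.IsQCoh (M0 X G.F) := Groth.L16.AffineBC.isQCoh_pullback _ _
  haveI : Coh.IsQCoh (M0 X G.next.F) := Groth.L16.AffineBC.isQCoh_pullback _ _
  refine shortExact_of_cover _ fun y => ?_
  obtain ⟨V, hyV, hV, hspan, hst⟩ := hG (pr X y)
  refine ⟨(pr X) ⁻¹ᵁ V, hyV, hV.preimage (pr X), ?_⟩
  let W := (pr X) ⁻¹ᵁ V
  letI : Algebra Γ(X, V) Γ(Ln X, W) := ((pr X).appLE V W le_rfl).hom.toAlgebra
  letI (N : (Ln X).Modules) : Module Γ(X, V) Γ(N, W) := Module.compHom _ ((pr X).appLE V W le_rfl).hom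
  haveI (N : (Ln X).Modules) : IsScalarTower Γ(X, V) Γ(Ln X, W) Γ(N, W) :=
    IsScalarTower.of_algebraMap_smul fun _ _ => rfl
  obtain ⟨b, hb⟩ := exists_basis hV
  have h₀ := Groth.L16.AffineBC.isBaseChange_pull (pr X) G.F hV (hV.preimage (pr X)) le_rfl
  have h₁ := Groth.L16.AffineBC.isBaseChange_pull (pr X) G.next.F hV (hV.preimage (pr X)) le_rfl
  have hp : ∀ (F : X.Modules) (x : Γ(F, V)),
      Groth.L16.AffineBC.pullRes (pr X) F (le_refl W) x = pull (pr X) F V x := fun F x => rs_self _ _ _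
  let e : Γ(G.next.F, V) →ₗ[Γ(X, V)] Γ(M, W) :=
    { toFun := fun x => G.next.j.app V x
      map_add' := fun a b => map_add (G.next.j.app V).hom a b
      map_smul' := fun a x => (G.next.j.app_smul a x).trans
        (by
          let m' : Γ(M, W) := G.next.j.app V x
          show (pr X).app V a • m' = (pr X).appLE V W le_rfl a • m'
          rw [Scheme.Hom.app_eq_appLE]) }
  let a : Γ(M0 X G.F, W) →ₗ[Γ(Ln X, W)] Γ(M0 X G.next.F, W) := appₗ (aMap G) W
  let q : Γ(M0 X G.next.F, W) →ₗ[Γ(Ln X, W)] Γ(M, W) := appₗ (qMap G) W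
  haveI := G.next.mono
  haveI := G.mono
  have he : Function.Injective e := Groth.L04.KSh.app_injective_of_mono G.next.j V
  have hi : ∀ x, e ((incl G).app V x) = G.j.app V x := fun x =>
    congr(Scheme.Modules.Hom.app $(incl_j G) V x)
  have hθ : ∀ x, e ((shift G).app V x) = tV V • e ((incl G).app V x) := fun x => by
    rw [hi]
    refine (congr(Scheme.Modules.Hom.app $(shift_j G) V x)).trans ?_
    exact TwSh.scalarEnd_app_apply M (t X) W _
  have hι : Function.Injective (appₗ (incl G) V) := fun x x' h =>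
    Groth.L04.KSh.app_injective_of_mono G.j V ((hi x).symm.trans ((congrArg e h).trans (hi x')))
  have ha : ∀ x, a (Groth.L16.AffineBC.pullRes (pr X) G.F (le_refl W) x) =
      tV V • Groth.L16.AffineBC.pullRes (pr X) G.next.F (le_refl W) (appₗ (incl G) V x) -
        Groth.L16.AffineBC.pullRes (pr X) G.next.F (le_refl W) (appₗ (shift G) V x) := fun x => by
    rw [hp, hp, hp]; exact aMap_pull G x
  have hq : ∀ x, q (Groth.L16.AffineBC.pullRes (pr X) G.next.F (le_refl W) x) = e x := fun x => by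
    rw [hp]; exact qMap_pull G x
  have hmem : ∀ z : Γ(G.next.F, V), (e z : Γ(P M, V)) ∈ fil (appₗ (θ M) V) (rg M G.j V) 1 := fun z =>
    (rg_iter G hV 1).le ⟨z, rfl⟩
  have hpow : ∀ (i : ℕ) (m : Γ(P M, V)),
      ((appₗ (θ M) V) ^ i) m = (show Γ(P M, V) from tV V ^ i • (show Γ(M, W) from m)) := by
    intro i
    induction i with
    | zero => intro m; simp
    | succ i ih =>
      intro m
      rw [pow_succ', Module.End.mul_apply, ih, pow_succ', mul_smul]
      exact TwSh.scalarEnd_app_apply M (t X) W _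
  have H : ∀ (z : Γ(G.next.F, V)) (d : ℕ) (x : ℕ → Γ(G.next.F, V)),
      tV V ^ d • e z = ∑ i ∈ Finset.range d, tV V ^ i • e (x i) →
      z ∈ LinearMap.range (appₗ (incl G) V) := by
    intro z d x hzx
    obtain ⟨w, hw⟩ := hst _ (hmem z) d (by
      rw [hpow]
      refine (show (tV V ^ d • e z) = _ from hzx).symm ▸ ?_
      refine Submodule.sum_mem _ fun i hi' => ?_
      refine fil_mono (appₗ (θ M) V) (rg M G.j V) (show 1 + i ≤ 0 + d from by
        have := Finset.mem_range.1 hi'; omega) ?_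
      have := pow_mem_fil (appₗ (θ M) V) (rg M G.j V) (hmem (x i)) i
      rwa [hpow] at this)
    exact ⟨w, he ((hi w).trans hw)⟩
  refine ⟨injective_a b hb h₀ h₁ _ _ a ha hι, exact_aq b hb h₀ h₁ _ _ e a q ha hq hθ he H, ?_⟩
  show Function.Surjective q
  rw [← LinearMap.range_eq_top, eq_top_iff, ← hspan, Submodule.span_le]
  rintro _ ⟨g, rfl⟩
  exact ⟨Groth.L16.AffineBC.pullRes (pr X) G.next.F (le_refl W) ((incl G).app V g), (hq _).trans (hi g)⟩

theorem iter_add (S : CohSub M) (n : ℕ) : (S.iter n).next = S.iter (n + 1) := rfl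

theorem exists_resolution (hM : Coh.IsCoh M) :
    ∃ (F₀ F₁ : X.Modules) (a : M0 X F₀ ⟶ M0 X F₁) (q : M0 X F₁ ⟶ M) (w : a ≫ q = 0),
      Coh.IsCoh F₀ ∧ Coh.IsCoh F₁ ∧ (ShortComplex.mk a q w).ShortExact := by
  classical
  obtain ⟨s, hs⟩ := isCompact_univ.elim_finite_subcover (fun V : X.affineOpens => (V.1 : Set X))
    (fun V => V.1.2) (fun x _ => by
      obtain ⟨_, ⟨V, hV, rfl⟩, hxV, -⟩ :=
        X.isBasis_affineOpens.exists_subset_of_mem_open (Set.mem_univ x) isOpen_univ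
      exact Set.mem_iUnion.2 ⟨⟨V, hV⟩, hxV⟩)
  have hfin : ∀ V : X.affineOpens, Module.Finite Γ(Ln X, (pr X) ⁻¹ᵁ V.1) Γ(M, (pr X) ⁻¹ᵁ V.1) :=
    fun V => Groth.L20.ModStalk.finite_sections M hM (V.2.preimage (pr X))
  choose gs hgs using fun V => (hfin V).fg_top
  obtain ⟨G₀, φ, hG₀, hgen⟩ := exists_gen M
    (s.toList.flatMap fun V => (gs V).toList.map fun m => (⟨V.1, m⟩ : (W : X.Opens) × Γ(P M, W)))
  let S : CohSub M := ⟨Abelian.image φ, Abelian.image.ι φ, Groth.L16.CohSupport.isCoh_image hG₀ φ, inferInstance⟩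
  have hfg : ∀ V : X.affineOpens, (rg M S.j V.1).FG := fun V => by
    haveI : Module.Finite Γ(X, V.1) Γ(S.F, V.1) := Groth.L20.ModStalk.finite_sections S.F S.hF V.2
    rw [rg, LinearMap.range_eq_map]
    exact Module.Finite.fg_top.map _
  have hstab : ∀ V : X.affineOpens, ∃ n₀, ∀ n, n₀ ≤ n → ∀ x ∈ fil (appₗ (θ M) V.1) (rg M S.j V.1) (n + 1),
      ∀ d, ((appₗ (θ M) V.1) ^ d) x ∈ fil (appₗ (θ M) V.1) (rg M S.j V.1) (n + d) →
        x ∈ fil (appₗ (θ M) V.1) (rg M S.j V.1) n := fun V =>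
    haveI := IsLocallyNoetherian.component_noetherian V
    exists_stable _ (hfg V)
  choose n₀ hn₀ using hstab
  let n := s.sup n₀
  have hiter : ∀ (V : X.affineOpens) (m : ℕ),
      fil (appₗ (θ M) V.1) (rg M (S.iter n).j V.1) m = fil (appₗ (θ M) V.1) (rg M S.j V.1) (n + m) := by
    intro V m
    induction m with
    | zero => exact rg_iter S V.2 n
    | succ m ih =>
      show _ ⊔ _ = fil _ _ (n + m) ⊔ _
      rw [ih]
      rfl
  refine ⟨_, _, aMap (S.iter n), qMap (S.iter n), a_q _, (S.iter n).hF, (S.iter n).next.hF,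
    shortExact_res fun x => ?_⟩
  obtain ⟨V, hVs, hxV⟩ := Set.mem_iUnion₂.1 (hs (Set.mem_univ x))
  refine ⟨V.1, hxV, V.2, ?_, fun y hy d hd => ?_⟩
  · rw [eq_top_iff, ← hgs V, Submodule.span_le]
    intro m hm
    obtain ⟨g, hg⟩ := hgen ⟨V.1, m⟩ (List.mem_flatMap.2 ⟨V, Finset.mem_toList.2 hVs,
      List.mem_map.2 ⟨m, Finset.mem_toList.2 hm, rfl⟩⟩)
    obtain ⟨w, hw⟩ := (rg_iter S V.2 n).ge (fil_mono _ _ (Nat.zero_le n)
      ⟨(Abelian.factorThruImage φ).app V.1 g, congr(Scheme.Modules.Hom.app $(Abelian.image.fac φ) V.1 g)⟩)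
    exact Submodule.subset_span ⟨w, hw.trans hg⟩
  · rw [hiter] at hy hd ⊢
    exact hn₀ V n (Finset.le_sup hVs) y hy d (by rwa [zero_add] at hd)

theorem cl_mem_range [(Scheme.Modules.pullback (pr X)).Additive] [PreservesFiniteLimits (Scheme.Modules.pullback (pr X))]
    [PreservesFiniteColimits (Scheme.Modules.pullback (pr X))]
    (hf : ∀ N : X.Modules, Coh.IsCoh N → Coh.IsCoh ((Scheme.Modules.pullback (pr X)).obj N)) (hM : Coh.IsCoh M) :
    KZero.clSub (fun N : (Ln X).Modules => Coh.IsCoh N) M ∈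
      (SGA6.mapSub (Scheme.Modules.pullback (pr X)) (fun N : X.Modules => Coh.IsCoh N)
        (fun N : (Ln X).Modules => Coh.IsCoh N) hf).range := by
  obtain ⟨F₀, F₁, a, q, w, h₀, h₁, hS⟩ := exists_resolution hM
  have h := Groth.L29.KSub.clSub_shortExact (fun N : (Ln X).Modules => Coh.IsCoh N) hS (hf _ h₀) (hf _ h₁) hM
  refine ⟨KZero.clSub (fun N : X.Modules => Coh.IsCoh N) F₁ - KZero.clSub (fun N : X.Modules => Coh.IsCoh N) F₀, ?_⟩
  rw [map_sub, Groth.L29.KcohLoc.mapSub_cl _ _ h₀, Groth.L29.KcohLoc.mapSub_cl _ _ h₁]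
  exact sub_eq_of_eq_add' h

end Groth.L29.AffLine
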